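import Groth.Agent.Lib.ModBCPlus6.Transpose
import Groth.Agent.Lib.PBC24.ModBCUnb
import Groth.Agent.Lib.EtMod3.PullExact

/-!
# The base change morphism of a bounded below complex of modules
-/

set_option autoImplicit false
set_option linter.style.haveILetI false
set_option linter.unusedSectionVars false
set_option backward.isDefEq.respectTransparency false
set_option backward.isDefEq.respectTransparency.types false

universe u

open CategoryTheory CategoryTheory.Limits AlgebraicGeometry Opposite HomologicalComplex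

namespace Groth.Agent.ModBCPlus6

attribute [local instance] HasDerivedCategory.standard

open Groth.Agent.PBC24 (ΨM ΦM)

variable (Λ : Type (u + 1)) [CommRing Λ] {X S X' S' : Scheme.{u}}
  (p : X ⟶ S) (g : S' ⟶ S) (p' : X' ⟶ S') (g' : X' ⟶ X) (w : g' ≫ p = p' ≫ g)

theorem preservesFiniteColimits_pullMod {A B : Scheme.{u}} (f : A ⟶ B) : PreservesFiniteColimits (EtModW.pull Λ f) :=
  haveI : (EtModW.pull Λ f).IsLeftAdjoint := (EtSix.pullPushModAdj Λ f).isLeftAdjoint
  inferInstance

variable (I : CochainComplex.Plus (EtModW.Mod Λ X))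

local notation "qP" => HomotopyCategory.Plus.quotient
local notation "QP" => DerivedCategory.Plus.Qh

/-- The base change morphism on bounded below complexes up to homotopy. -/
noncomputable def ΨP :
    (EtModW.pull Λ g).mapHomotopyCategoryPlus.obj
        ((EtModW.push Λ p).mapHomotopyCategoryPlus.obj ((qP (EtModW.Mod Λ X)).obj I)) ⟶
      (EtModW.push Λ p').mapHomotopyCategoryPlus.obj
        ((EtModW.pull Λ g').mapHomotopyCategoryPlus.obj ((qP (EtModW.Mod Λ X)).obj I)) :=
  ObjectProperty.homMk ((HomotopyCategory.quotient (EtModW.Mod Λ S') (ComplexShape.up ℤ)).map (ΨM Λ p g p' g' w I.obj))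

theorem plusNatTrans_hom {A B : Type*} [Category A] [Abelian A] [Category B] [Abelian B] {F G : A ⥤ B} [F.Additive]
    [G.Additive] (α : F ⟶ G) (K : HomotopyCategory.Plus A) :
    ((EtSix.plusNatTrans α).app K).hom = (NatTrans.mapHomotopyCategory α (ComplexShape.up ℤ)).app K.obj :=
  congr_app (((HomotopyCategory.plus B).fullyFaithfulι.whiskeringRight (HomotopyCategory.Plus A)).map_preimage
    (X := F.mapHomotopyCategoryPlus) (Y := G.mapHomotopyCategoryPlus) (Functor.whiskerLeft (HomotopyCategory.Plus.ι A) (NatTrans.mapHomotopyCategory α (ComplexShape.up ℤ)))) K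

theorem compIso_inv_hom {A B C : Type*} [Category A] [Abelian A] [Category B] [Abelian B] [Category C] [Abelian C]
    (F : A ⥤ B) [F.Additive] (G : B ⥤ C) [G.Additive] (K : CochainComplex.Plus A) :
    ((Functor.mapHomotopyCategoryPlusCompIso (Iso.refl (F ⋙ G))).inv.app ((qP A).obj K)).hom = 𝟙 _ :=
  (congr_app (((HomotopyCategory.plus C).fullyFaithfulι.whiskeringRight (HomotopyCategory.Plus A)).map_preimage
    (X := (F ⋙ G).mapHomotopyCategoryPlus) (Y := F.mapHomotopyCategoryPlus ⋙ G.mapHomotopyCategoryPlus)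
    (Functor.isoWhiskerLeft (HomotopyCategory.Plus.ι A)
      (Functor.mapHomotopyCategoryCompIso (Iso.refl (F ⋙ G)) (ComplexShape.up ℤ))).inv) ((qP A).obj K)).trans
    (EtAcyc24.compIso_refl_inv F G K.obj)

/-- The homotopy-theoretic part of the unit of base change. -/
theorem pre_eq_homEquiv :
    (EtSix.plusNatTrans (EtSix.pushToPushPullMod Λ p g p' g' w) ≫
      (Functor.mapHomotopyCategoryPlusCompIso (Iso.refl (EtModW.pull Λ g' ⋙ (EtModW.push Λ p' ⋙ EtModW.push Λ g)))).inv ≫
      Functor.whiskerLeft (EtModW.pull Λ g').mapHomotopyCategoryPlus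
        (Functor.mapHomotopyCategoryPlusCompIso (Iso.refl (EtModW.push Λ p' ⋙ EtModW.push Λ g))).inv).app
          ((qP (EtModW.Mod Λ X)).obj I) =
      (S14623.adjPlus (EtSix.pullPushModAdj Λ g)).homEquiv _ _ (ΨP Λ p g p' g' w I) := by
  haveI : (EtModW.pull Λ g).Additive := inferInstance
  apply ObjectProperty.hom_ext
  rw [NatTrans.comp_app, NatTrans.comp_app, Functor.whiskerLeft_app, ObjectProperty.FullSubcategory.comp_hom,
    ObjectProperty.FullSubcategory.comp_hom, plusNatTrans_hom, compIso_inv_hom]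
  erw [compIso_inv_hom (EtModW.push Λ p') (EtModW.push Λ g)
    ((EtModW.pull Λ g').mapCochainComplexPlus.obj I)]
  erw [Category.comp_id]
  rw [Adjunction.homEquiv_unit, ObjectProperty.FullSubcategory.comp_hom]
  show (HomotopyCategory.quotient (EtModW.Mod Λ S) (ComplexShape.up ℤ)).map
      ((NatTrans.mapHomologicalComplex (EtSix.pushToPushPullMod Λ p g p' g' w) (ComplexShape.up ℤ)).app I.obj) =
    (HomotopyCategory.quotient (EtModW.Mod Λ S) (ComplexShape.up ℤ)).map (S14623.unitC (EtSix.pullPushModAdj Λ g) _) ≫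
      (HomotopyCategory.quotient (EtModW.Mod Λ S) (ComplexShape.up ℤ)).map
        (((EtModW.push Λ g).mapHomologicalComplex (ComplexShape.up ℤ)).map (ΨM Λ p g p' g' w I.obj))
  rw [← Functor.map_comp]
  refine congrArg _ (HomologicalComplex.hom_ext _ _ fun n => ?_)
  show (EtSix.pushToPushPullMod Λ p g p' g' w).app (I.obj.X n) =
    (EtSix.pullPushModAdj Λ g).unit.app ((EtModW.push Λ p).obj (I.obj.X n)) ≫
      (EtModW.push Λ g).map (EtSix.baseChange0Mod Λ p g p' g' w (I.obj.X n))
  refine Eq.trans ?_ ((EtSix.pullPushModAdj Λ g).homEquiv_unit _ _ _)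
  rw [EtSix.baseChange0Mod]
  exact (Equiv.apply_symm_apply _ _).symm

variable (adj : (EtModW.pull Λ g).rightDerivedFunctorPlus ⊣ (EtModW.push Λ g).rightDerivedFunctorPlus)
  [∀ n, Injective (I.obj.X n)] {J : CochainComplex.Plus (EtModW.Mod Λ X')} [∀ n, Injective (J.obj.X n)]
  (χ : ((EtModW.pull Λ g').mapHomologicalComplex (ComplexShape.up ℤ)).obj I.obj ⟶ J.obj) [_root_.QuasiIso χ]
  {O : DerivedCategory.Plus (EtModW.Mod Λ X)} (ε : (QP).obj ((qP (EtModW.Mod Λ X)).obj I) ≅ O)

include ε in
/-- Base change is invertible if the map of complexes is a quasi-isomorphism. -/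
theorem isIso_bcMapMod_of_quasiIso (hΦ : _root_.QuasiIso (ΦM Λ p g p' g' w I.obj χ)) :
    IsIso (EtSix.bcMapMod Λ p g p' g' w adj O) := by
  haveI := preservesFiniteColimits_pullMod Λ g
  haveI := preservesFiniteColimits_pullMod Λ g'
  let K := (qP (EtModW.Mod Λ X)).obj I
  let Fp := (EtModW.push Λ p).rightDerivedFunctorPlus
  let Fg := (EtModW.pull Λ g).rightDerivedFunctorPlus
  have hn : Fg.map (Fp.map ε.hom) ≫ EtSix.bcMapMod Λ p g p' g' w adj O =
      EtSix.bcMapMod Λ p g p' g' w adj ((QP).obj K) ≫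
        (EtModW.push Λ p').rightDerivedFunctorPlus.map ((EtModW.pull Λ g').rightDerivedFunctorPlus.map ε.hom) := by
    simp only [EtSix.bcMapMod, Fg, Fp]
    rw [← Adjunction.homEquiv_naturality_left_symm, ← Adjunction.homEquiv_naturality_right_symm]
    exact congrArg _ ((EtSix.bcAdjMod Λ p g p' g' w).naturality ε.hom)
  suffices IsIso (EtSix.bcMapMod Λ p g p' g' w adj ((QP).obj K)) by
    haveI : IsIso (Fg.map (Fp.map ε.hom) ≫ EtSix.bcMapMod Λ p g p' g' w adj O) := by
      rw [hn]; infer_instance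
    exact IsIso.of_isIso_comp_left (Fg.map (Fp.map ε.hom)) _
  let v := (EtModW.push Λ p).rightDerivedFunctorPlusUnit.app K
  haveI : IsIso v := isIso_unit_of_injective (EtModW.push Λ p) I
  let C₁ := (EtModW.pull Λ g').mapHomotopyCategoryPlus.obj K
  let tail : (QP).obj ((EtModW.push Λ p').mapHomotopyCategoryPlus.obj C₁) ⟶
      (EtModW.push Λ p').rightDerivedFunctorPlus.obj ((EtModW.pull Λ g').rightDerivedFunctorPlus.obj ((QP).obj K)) :=
    (EtModW.push Λ p').rightDerivedFunctorPlusUnit.app C₁ ≫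
      (EtModW.push Λ p').rightDerivedFunctorPlus.map ((EtModW.pull Λ g').rightDerivedFunctorPlusUnit.app K)
  have hfac : v ≫ (EtSix.bcAdjMod Λ p g p' g' w).app ((QP).obj K) =
      (EtSix.rPlusUnit₃ (EtSix.pushToPushPullMod Λ p g p' g' w)).app K :=
    Functor.rightDerived_fac_app _ _ _ _ _ _
  have hunit : v ≫ (EtSix.bcAdjMod Λ p g p' g' w).app ((QP).obj K) =
      uP (EtSix.pullPushModAdj Λ g) ((EtModW.push Λ p).mapHomotopyCategoryPlus.obj K) ≫
        (EtModW.push Λ g).rightDerivedFunctorPlus.map ((QP).map (ΨP Λ p g p' g' w I) ≫ tail) := by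
    rw [hfac, Functor.map_comp (EtModW.push Λ g).rightDerivedFunctorPlus]
    erw [← Category.assoc, uP_map (EtSix.pullPushModAdj Λ g), ← pre_eq_homEquiv]
    simp only [EtSix.rPlusUnit₃, tail, NatTrans.comp_app, Functor.whiskerRight_app, Functor.whiskerLeft_app,
      Functor.associator_hom_app, Functor.associator_inv_app, Functor.comp_map, Functor.map_comp, Category.assoc]
    erw [Category.id_comp, Category.id_comp, Category.id_comp, Category.id_comp, Category.comp_id]
    erw [Category.id_comp]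
  let t := tP (EtSix.pullPushModAdj Λ g) adj ((EtModW.push Λ p).mapHomotopyCategoryPlus.obj K)
  haveI : IsIso t := isIso_tP (EtSix.pullPushModAdj Λ g) adj _
  have key : Fg.map v ≫ EtSix.bcMapMod Λ p g p' g' w adj ((QP).obj K) =
      t ≫ (QP).map (ΨP Λ p g p' g' w I) ≫ tail := by
    simp only [EtSix.bcMapMod, t, tP, Fg]
    exact ((adj.homEquiv_naturality_left_symm v _).symm.trans (congrArg _ hunit)).trans
      (adj.homEquiv_naturality_right_symm _ _)
  let χ' : (EtModW.pull Λ g').mapCochainComplexPlus.obj I ⟶ J := ObjectProperty.homMk χ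
  let k : C₁ ⟶ (qP (EtModW.Mod Λ X')).obj J := (qP (EtModW.Mod Λ X')).map χ'
  haveI : IsIso ((QP).map k) := (isIso_Qh_map_iff χ').2 ‹_›
  haveI : IsIso ((EtModW.push Λ p').rightDerivedFunctorPlusUnit.app ((qP (EtModW.Mod Λ X')).obj J)) :=
    isIso_unit_of_injective _ J
  haveI : IsIso ((EtModW.pull Λ g').rightDerivedFunctorPlusUnit.app K) := isIso_unit_of_exact _ K
  let m : (EtModW.pull Λ g).mapCochainComplexPlus.obj ((EtModW.push Λ p).mapCochainComplexPlus.obj I) ⟶
      (EtModW.push Λ p').mapCochainComplexPlus.obj J := ObjectProperty.homMk (ΦM Λ p g p' g' w I.obj χ)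
  haveI hm : IsIso ((QP).map ((qP (EtModW.Mod Λ S')).map m)) := (isIso_Qh_map_iff m).2 hΦ
  have hmid : (QP).map (ΨP Λ p g p' g' w I) ≫ (QP).map ((EtModW.push Λ p').mapHomotopyCategoryPlus.map k) =
      (QP).map ((qP (EtModW.Mod Λ S')).map m) := by
    rw [← Functor.map_comp]
    refine congrArg _ (ObjectProperty.hom_ext _ ?_)
    exact ((HomotopyCategory.quotient _ _).map_comp (ΨM Λ p g p' g' w I.obj) _).symm
  have hnat := (EtModW.push Λ p').rightDerivedFunctorPlusUnit.naturality k
  haveI : IsIso ((QP).map (ΨP Λ p g p' g' w I) ≫ tail) := by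
    have e : (QP).map (ΨP Λ p g p' g' w I) ≫ (EtModW.push Λ p').rightDerivedFunctorPlusUnit.app C₁ =
        (QP).map ((qP (EtModW.Mod Λ S')).map m) ≫
          (EtModW.push Λ p').rightDerivedFunctorPlusUnit.app ((qP (EtModW.Mod Λ X')).obj J) ≫
            inv ((EtModW.push Λ p').rightDerivedFunctorPlus.map ((QP).map k)) := by
      rw [← hmid, Category.assoc, ← cancel_mono ((EtModW.push Λ p').rightDerivedFunctorPlus.map ((QP).map k))]
      simp only [Category.assoc, IsIso.inv_hom_id, Category.comp_id]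
      exact congrArg ((QP).map (ΨP Λ p g p' g' w I) ≫ ·) hnat.symm
    simp only [tail]
    rw [reassoc_of% e]
    infer_instance
  haveI : IsIso (Fg.map v ≫ EtSix.bcMapMod Λ p g p' g' w adj ((QP).obj K)) := by
    rw [key]; infer_instance
  exact IsIso.of_isIso_comp_left (Fg.map v) _

end Groth.Agent.ModBCPlus6
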