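import Groth.Agent.Lib.ModBCPlus6.Cx
import Groth.Agent.Lib.PBC24.BoundedBelow
import Groth.Agent.Lib.PBC24.Main
import Groth.Agent.Lib.EtColim.Torsion
import Groth.Agent.Lib.InjDim6.Forget
import Groth.Prelude.Def_EtModD2

/-!
# Proper base change for bounded below complexes of modules with torsion cohomology
-/

set_option autoImplicit false
set_option linter.style.haveILetI false
set_option linter.unusedSectionVars false
set_option backward.isDefEq.respectTransparency false
set_option backward.isDefEq.respectTransparency.types false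

universe u

open CategoryTheory CategoryTheory.Limits AlgebraicGeometry Opposite HomologicalComplex

namespace Groth.Agent.ModBCPlus6

attribute [local instance] HasDerivedCategory.standard

open Groth.Agent.PBC24 (ΨM ΦM pullForget)
open Groth.Agent.BcMapQ6 (ΦG ΨCx)

variable (Λ : Type (u + 1)) [CommRing Λ] {X S X' S' : Scheme.{u}}

local notation "cx" F => Functor.mapHomologicalComplex F (ComplexShape.up ℤ)

theorem isStrictlyGE_cx {A B : Type*} [Category A] [Abelian A] [Category B] [Abelian B] (F : A ⥤ B) [F.Additive]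
    (K : CochainComplex A ℤ) (n m : ℤ) (hm : m ≤ n) [K.IsStrictlyGE n] :
    CochainComplex.IsStrictlyGE ((cx F).obj K) m :=
  (CochainComplex.isStrictlyGE_iff _ _).2 fun i hi => F.map_isZero (K.isZero_of_isStrictlyGE n i (by omega))

/-- Direct image preserves quasi-isomorphisms from complexes of modules with injective terms. -/
theorem quasiIso_push_forget {A B : Scheme.{u}} (f : A ⟶ B) (n : ℤ) (I : CochainComplex (EtModW.Mod Λ A) ℤ)
    [∀ m, Injective (I.X m)] [I.IsStrictlyGE n] {I₂ : CochainComplex (EtCoh.Ab A) ℤ} [∀ m, Injective (I₂.X m)]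
    [I₂.IsStrictlyGE (n - 1)] (j : (cx (EtModD.forgetToAb Λ A)).obj I ⟶ I₂) [_root_.QuasiIso j] :
    _root_.QuasiIso ((cx (EtCoh.push f)).map j) := by
  haveI : PreservesLimitsOfSize.{0, 0} (EtCoh.push f) := (EtCoh.pullPushAdj f).rightAdjoint_preservesLimits
  haveI : CochainComplex.IsStrictlyGE ((cx (EtModD.forgetToAb Λ A)).obj I) (n - 1 + 1) :=
    isStrictlyGE_cx _ I n _ (by omega)
  exact RFPlus.quasiIso_map_of_acyclic_terms (EtCoh.push f) j (n - 1)
    (fun m q hq => EtAcyc24.isZero_Rpush_of_acyc f (PBC24.acyc_forget Λ (I.X m)) q hq)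
    fun m => RFPlus.isAcyclicObj_injective _ _

/-- Forgetting the module structure reflects quasi-isomorphisms. -/
theorem quasiIso_of_forget {A : Scheme.{u}} {K L : CochainComplex (EtModW.Mod Λ A) ℤ} (φ : K ⟶ L)
    [_root_.QuasiIso ((cx (EtModD.forgetToAb Λ A)).map φ)] : _root_.QuasiIso φ := by
  haveI : (EtModD.forgetToAb Λ A).ReflectsIsomorphisms :=
    reflectsIsomorphisms_of_reflectsMonomorphisms_of_reflectsEpimorphisms _
  exact (quasiIso_map_iff_of_preservesHomology φ (EtModD.forgetToAb Λ A)).1 inferInstance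

variable (p : X ⟶ S) (g : S' ⟶ S) (p' : X' ⟶ S') (g' : X' ⟶ X) (h : IsPullback g' p' p g) [IsProper p]

include h in
/-- The map of complexes computing base change is a quasi-isomorphism. -/
theorem quasiIso_ΦM (I : CochainComplex (EtModW.Mod Λ X) ℤ) [∀ m, Injective (I.X m)] (n : ℤ) [I.IsStrictlyGE n]
    (hI : ∀ i, EtCoh.IsTorsion ((EtModD.forgetToAb Λ X).obj (I.homology i)))
    {J : CochainComplex (EtModW.Mod Λ X') ℤ} [∀ m, Injective (J.X m)] [J.IsStrictlyGE n]
    (χ : (cx (EtModW.pull Λ g')).obj I ⟶ J) [_root_.QuasiIso χ] :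
    _root_.QuasiIso (ΦM Λ p g p' g' h.w I χ) := by
  let U₀ := EtModD.forgetToAb Λ X
  let U' := EtModD.forgetToAb Λ X'
  let V := EtModD.forgetToAb Λ S'
  let UI := (cx U₀).obj I
  let UJ := (cx U').obj J
  haveI : CochainComplex.IsStrictlyGE UI (n - 1) := isStrictlyGE_cx _ I n _ (by omega)
  haveI : CochainComplex.IsStrictlyGE UJ (n - 1) := isStrictlyGE_cx _ J n _ (by omega)
  obtain ⟨I₂, a, ha, _, _⟩ := CochainComplex.Plus.modelCategoryQuillen.exists_quasiIso_injective UI (n - 1)
  obtain ⟨J₂, b, hb, _, _⟩ := CochainComplex.Plus.modelCategoryQuillen.exists_quasiIso_injective UJ (n - 1)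
  haveI : I₂.IsKInjective := CochainComplex.isKInjective_of_injective _ (n - 1)
  haveI : J₂.IsKInjective := CochainComplex.isKInjective_of_injective _ (n - 1)
  haveI : PreservesFiniteLimits (EtCoh.pull g) := EtStalk.preservesFiniteLimits_pull g
  haveI : PreservesFiniteLimits (EtCoh.pull g') := EtStalk.preservesFiniteLimits_pull g'
  haveI : (EtCoh.pull g).Additive := (EtCoh.pullPushAdj g).left_adjoint_additive
  haveI : (EtCoh.pull g').Additive := (EtCoh.pullPushAdj g').left_adjoint_additive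
  haveI : PreservesFiniteColimits (EtCoh.pull g) :=
    haveI : (EtCoh.pull g).IsLeftAdjoint := (EtCoh.pullPushAdj g).isLeftAdjoint
    inferInstance
  haveI : PreservesFiniteColimits (EtCoh.pull g') :=
    haveI : (EtCoh.pull g').IsLeftAdjoint := (EtCoh.pullPushAdj g').isLeftAdjoint
    inferInstance
  let eP := (NatIso.mapHomologicalComplex (pullForget Λ g') (ComplexShape.up ℤ)).app I
  let d : (cx (EtCoh.pull g')).obj UI ⟶ J₂ := eP.hom ≫ (cx U').map χ ≫ b
  haveI : _root_.QuasiIso eP.hom := inferInstance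
  haveI : _root_.QuasiIso d := by
    simp only [d]; infer_instance
  haveI : IsIso (DerivedCategory.Q.map ((cx (EtCoh.pull g')).map a)) :=
    (DerivedCategory.isIso_Q_map_iff_quasiIso _ _).2 inferInstance
  haveI : IsIso (DerivedCategory.Q.map d) := (DerivedCategory.isIso_Q_map_iff_quasiIso _ _).2 inferInstance
  obtain ⟨c, hc⟩ := KInjLib.exists_map_eq (inv (DerivedCategory.Q.map ((cx (EtCoh.pull g')).map a)) ≫ DerivedCategory.Q.map d)
  haveI : IsIso (DerivedCategory.Q.map c) := hc ▸ inferInstance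
  haveI : _root_.QuasiIso c := (DerivedCategory.isIso_Q_map_iff_quasiIso _ c).1 inferInstance
  obtain ⟨H⟩ := (KInjLib.map_eq_iff ((cx (EtCoh.pull g')).map a ≫ c) d).1
    (by rw [Functor.map_comp, hc, IsIso.hom_inv_id_assoc])
  -- abelian base change
  haveI := BcMapQ6.hasRpushEt X p
  haveI := BcMapQ6.hasRpushEt X' p'
  haveI := BcMapQ6.hasRpushEt S' g
  obtain ⟨adjA⟩ := BcMapQ6.nonempty_adj g
  haveI : (DerivedCategory.Q.obj I₂).IsGE (n - 1) := inferInstance
  haveI hA : _root_.QuasiIso (ΦG g p g' p' h.w I₂ c) := by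
    refine (BcMapQ6.isIso_bcMap_iff_cx g p g' p' h.w adjA I₂ c (Iso.refl (DerivedCategory.Q.obj I₂))).1 ?_
    refine PBC24.isIso_bcMap_boundedBelow PBC24.properBC p g p' g' h adjA (DerivedCategory.Q.obj I₂) (n - 1) fun i => ?_
    haveI : IsIso (homologyMap a i) := by
      rw [← quasiIsoAt_iff_isIso_homologyMap]
      exact ha.quasiIsoAt i
    exact EtColim.isTorsion_of_iso
      (((I.sc i).mapHomologyIso U₀).symm ≪≫ asIso (homologyMap a i) ≪≫
        ((DerivedCategory.homologyFunctorFactors (EtCoh.Ab X) i).app I₂).symm) (hI i)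
  haveI := quasiIso_push_forget Λ p n I a
  haveI := quasiIso_push_forget Λ p' n J b
  haveI h1 : _root_.QuasiIso ((cx (EtCoh.pull g)).map ((cx (EtCoh.push p)).map a) ≫ ΦG g p g' p' h.w I₂ c) :=
    inferInstance
  have e1 : (cx (EtCoh.pull g)).map ((cx (EtCoh.push p)).map a) ≫ ΦG g p g' p' h.w I₂ c =
      ΨCx g p g' p' h.w UI ≫ (cx (EtCoh.push p')).map ((cx (EtCoh.pull g')).map a ≫ c) := by
    rw [ΦG, Functor.map_comp, ← Category.assoc, ← Category.assoc]
    refine congrArg (· ≫ _) ?_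
    exact (NatTrans.mapHomologicalComplex (EtBCQ24.bc0N p g p' g' h.w) (ComplexShape.up ℤ)).naturality a
  haveI h2 : _root_.QuasiIso (ΨCx g p g' p' h.w UI ≫ (cx (EtCoh.push p')).map d) :=
    @BcMapQ6.isIso_Q_map_of_homotopy _ _ _ _ _ _ _ _
      ((Homotopy.ofEq e1).trans (((EtCoh.push p').mapHomotopy H).compLeft (ΨCx g p g' p' h.w UI))) h1
  let eS := (NatIso.mapHomologicalComplex (pullForget Λ g) (ComplexShape.up ℤ)).app ((cx (EtModW.push Λ p)).obj I)
  have e2 : eS.hom ≫ (cx V).map (ΦM Λ p g p' g' h.w I χ) ≫ (cx (EtCoh.push p')).map b =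
      ΨCx g p g' p' h.w UI ≫ (cx (EtCoh.push p')).map d := by
    refine HomologicalComplex.hom_ext _ _ fun m => ?_
    show (pullForget Λ g).hom.app ((EtModW.push Λ p).obj (I.X m)) ≫
        V.map (EtSix.baseChange0Mod Λ p g p' g' h.w (I.X m) ≫ (EtModW.push Λ p').map (χ.f m)) ≫
          (EtCoh.push p').map (b.f m) =
      EtCoh.baseChange0 p g p' g' h.w (U₀.obj (I.X m)) ≫
        (EtCoh.push p').map ((pullForget Λ g').hom.app (I.X m) ≫ U'.map (χ.f m) ≫ b.f m)
    rw [Functor.map_comp V, Category.assoc, reassoc_of% (PBC24.forget_baseChange0Mod Λ p g p' g' h.w (I.X m))]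
    simp only [Functor.map_comp]
    rfl
  haveI h3 : _root_.QuasiIso (eS.hom ≫ (cx V).map (ΦM Λ p g p' g' h.w I χ) ≫ (cx (EtCoh.push p')).map b) := e2 ▸ h2
  haveI : _root_.QuasiIso eS.hom := inferInstance
  haveI h4 := quasiIso_of_comp_left eS.hom ((cx V).map (ΦM Λ p g p' g' h.w I χ) ≫ (cx (EtCoh.push p')).map b)
  haveI h5 : _root_.QuasiIso ((cx V).map (ΦM Λ p g p' g' h.w I χ)) :=
    quasiIso_of_comp_right _ ((cx (EtCoh.push p')).map b)
  exact quasiIso_of_forget Λ _

/-- Proper base change for bounded below complexes of modules with torsion cohomology. -/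
theorem isIso_bcMapMod
    (adj : (EtModW.pull Λ g).rightDerivedFunctorPlus ⊣ (EtModW.push Λ g).rightDerivedFunctorPlus)
    (K : DerivedCategory.Plus (EtModW.Mod Λ X))
    (hK : ∀ i : ℤ, EtCoh.IsTorsion ((EtModD.forgetToAb Λ X).obj
      ((DerivedCategory.Plus.homologyFunctor (EtModW.Mod Λ X) i).obj K))) :
    IsIso (EtSix.bcMapMod Λ p g p' g' h.w adj K) := by
  obtain ⟨I, hinj, ⟨ε⟩⟩ := exists_injective_rep K
  haveI := hinj
  obtain ⟨n, hn⟩ := I.property
  haveI := preservesFiniteColimits_pullMod Λ g'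
  haveI : CochainComplex.IsStrictlyGE (((EtModW.pull Λ g').mapHomologicalComplex (ComplexShape.up ℤ)).obj I.obj) n :=
    isStrictlyGE_cx _ I.obj n n le_rfl
  obtain ⟨J, χ, _, hJ, hJn⟩ := CochainComplex.Plus.modelCategoryQuillen.exists_quasiIso_injective
    (((EtModW.pull Λ g').mapHomologicalComplex (ComplexShape.up ℤ)).obj I.obj) n
  let J' : CochainComplex.Plus (EtModW.Mod Λ X') := ⟨J, n, hJn⟩
  haveI : ∀ m, Injective (J'.obj.X m) := hJ
  refine isIso_bcMapMod_of_quasiIso Λ p g p' g' h.w I adj (J := J') χ ε ?_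
  refine quasiIso_ΦM Λ p g p' g' h I.obj n (fun i => ?_) χ
  exact EtColim.isTorsion_of_iso ((EtModD.forgetToAb Λ X).mapIso
    ((DerivedCategory.Plus.homologyFunctor (EtModW.Mod Λ X) i).mapIso ε.symm ≪≫
      (DerivedCategory.homologyFunctor (EtModW.Mod Λ X) i).mapIso
        ((DerivedCategory.quotientCompQhIso (EtModW.Mod Λ X)).app I.obj) ≪≫
      (DerivedCategory.homologyFunctorFactors (EtModW.Mod Λ X) i).app I.obj)) (hK i)

end Groth.Agent.ModBCPlus6
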