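import Groth.Agent.S14623
import Mathlib.CategoryTheory.Preadditive.Injective.Preserves

/-!
# Adjunctions between bounded below derived functors, at a complex
-/

set_option autoImplicit false
set_option linter.style.haveILetI false
set_option linter.unusedSectionVars false
set_option backward.isDefEq.respectTransparency false
set_option backward.isDefEq.respectTransparency.types false

universe w v u

open CategoryTheory CategoryTheory.Limits

namespace Groth.Agent.ModBCPlus6

variable {A B : Type u} [Category.{v} A] [Category.{v} B] [Abelian A] [Abelian B]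
  [HasDerivedCategory.{w} A] [HasDerivedCategory.{w} B]

/-- Maps between complexes become invertible in the bounded below derived category exactly when they are
quasi-isomorphisms. -/
theorem isIso_Qh_map_iff {K L : CochainComplex.Plus A} (φ : K ⟶ L) :
    IsIso (DerivedCategory.Plus.Qh.map ((HomotopyCategory.Plus.quotient A).map φ)) ↔ QuasiIso φ.hom := by
  rw [← isIso_iff_of_reflects_iso _ DerivedCategory.Plus.ι,
    ← DerivedCategory.isIso_Q_map_iff_quasiIso (C := A) φ.hom]
  exact ((MorphismProperty.isomorphisms _).arrow_mk_iso_iff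
    (Arrow.isoMk ((DerivedCategory.quotientCompQhIso A).app K.obj) ((DerivedCategory.quotientCompQhIso A).app L.obj)
      ((DerivedCategory.quotientCompQhIso_hom_naturality φ.hom).symm) :
      Arrow.mk (DerivedCategory.Qh.map ((HomotopyCategory.quotient A (ComplexShape.up ℤ)).map φ.hom)) ≅
        Arrow.mk (DerivedCategory.Q.map φ.hom)))

/-- The unit is invertible on complexes of injectives. -/
theorem isIso_unit_of_injective [EnoughInjectives A] (F : A ⥤ B) [F.Additive] (I : CochainComplex.Plus A)
    [∀ n, Injective (I.obj.X n)] :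
    IsIso (F.rightDerivedFunctorPlusUnit.app ((HomotopyCategory.Plus.quotient A).obj I)) := by
  haveI : QuasiIso (CategoryStruct.id I : I ⟶ I).hom := by
    show QuasiIso (𝟙 I.obj)
    infer_instance
  rw [RFPlus.isIso_unit_iff F (𝟙 I)]
  show QuasiIso ((F.mapHomologicalComplex (ComplexShape.up ℤ)).map (𝟙 I.obj))
  rw [CategoryTheory.Functor.map_id]
  infer_instance

/-- Every object is a bounded below complex of injectives. -/
theorem exists_injective_rep [EnoughInjectives A] (K : DerivedCategory.Plus A) :
    ∃ (I : CochainComplex.Plus A), (∀ n, Injective (I.obj.X n)) ∧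
      Nonempty (DerivedCategory.Plus.Qh.obj ((HomotopyCategory.Plus.quotient A).obj I) ≅ K) := by
  obtain ⟨C, hC⟩ := HomotopyCategory.Plus.quotient_obj_surjective (DerivedCategory.Plus.Qh.objPreimage K)
  obtain ⟨a, ha⟩ := C.property
  obtain ⟨I, j, hj, hinj, hI⟩ := CochainComplex.Plus.modelCategoryQuillen.exists_quasiIso_injective C.obj a
  let I' : CochainComplex.Plus A := ⟨I, a, hI⟩
  let j' : C ⟶ I' := ObjectProperty.homMk j
  haveI := (isIso_Qh_map_iff j').2 hj
  exact ⟨I', hinj, ⟨(asIso (DerivedCategory.Plus.Qh.map ((HomotopyCategory.Plus.quotient A).map j'))).symm ≪≫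
    DerivedCategory.Plus.Qh.mapIso (eqToIso hC) ≪≫ DerivedCategory.Plus.Qh.objObjPreimageIso K⟩⟩

variable [EnoughInjectives A] [EnoughInjectives B] (F : A ⥤ B) [F.Additive] [PreservesFiniteLimits F]
  [PreservesFiniteColimits F]

/-- The unit of an exact functor is invertible. -/
theorem isIso_unit_of_exact (K : HomotopyCategory.Plus A) : IsIso (F.rightDerivedFunctorPlusUnit.app K) := by
  obtain ⟨K, rfl⟩ := HomotopyCategory.Plus.quotient_obj_surjective K
  obtain ⟨a, ha⟩ := K.property
  obtain ⟨I, j, hj, hinj, hI⟩ := CochainComplex.Plus.modelCategoryQuillen.exists_quasiIso_injective K.obj a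
  let I' : CochainComplex.Plus A := ⟨I, a, hI⟩
  let j' : K ⟶ I' := ObjectProperty.homMk j
  haveI : QuasiIso j'.hom := hj
  haveI : ∀ n, Injective (I'.obj.X n) := hinj
  rw [RFPlus.isIso_unit_iff F j']
  infer_instance

variable {L : A ⥤ B} {R : B ⥤ A} [L.Additive] [R.Additive] [PreservesFiniteLimits L] [PreservesFiniteColimits L]
  (adj : L ⊣ R)

/-- The class of the unit at a bounded below complex. -/
noncomputable def uP (C : HomotopyCategory.Plus A) :
    DerivedCategory.Plus.Qh.obj C ⟶ R.rightDerivedFunctorPlus.obj (DerivedCategory.Plus.Qh.obj (L.mapHomotopyCategoryPlus.obj C)) :=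
  DerivedCategory.Plus.Qh.map ((S14623.adjPlus adj).unit.app C) ≫
    R.rightDerivedFunctorPlusUnit.app (L.mapHomotopyCategoryPlus.obj C)

theorem uP_map (C : HomotopyCategory.Plus A) {I : HomotopyCategory.Plus B} (k : L.mapHomotopyCategoryPlus.obj C ⟶ I) :
    uP adj C ≫ R.rightDerivedFunctorPlus.map (DerivedCategory.Plus.Qh.map k) =
      DerivedCategory.Plus.Qh.map ((S14623.adjPlus adj).homEquiv _ _ k) ≫ R.rightDerivedFunctorPlusUnit.app I := by
  rw [Adjunction.homEquiv_unit, Functor.map_comp, Category.assoc, uP, Category.assoc]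
  exact congrArg (DerivedCategory.Plus.Qh.map ((S14623.adjPlus adj).unit.app C) ≫ ·)
    (R.rightDerivedFunctorPlusUnit.naturality k).symm

/-- The unit class is universal. -/
theorem bijective_uP_comp (C : HomotopyCategory.Plus A) (K : DerivedCategory.Plus B) :
    Function.Bijective (fun g : DerivedCategory.Plus.Qh.obj (L.mapHomotopyCategoryPlus.obj C) ⟶ K =>
      uP adj C ≫ R.rightDerivedFunctorPlus.map g) := by
  haveI : R.PreservesInjectiveObjects :=
    Functor.preservesInjectiveObjects_of_adjunction_of_preservesMonomorphisms adj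
  obtain ⟨I, hI, ⟨e⟩⟩ := exists_injective_rep K
  haveI := hI
  let J := (HomotopyCategory.Plus.quotient B).obj I
  suffices key : Function.Bijective (fun g : DerivedCategory.Plus.Qh.obj (L.mapHomotopyCategoryPlus.obj C) ⟶
      DerivedCategory.Plus.Qh.obj J => uP adj C ≫ R.rightDerivedFunctorPlus.map g) by
    have he : (fun g : DerivedCategory.Plus.Qh.obj (L.mapHomotopyCategoryPlus.obj C) ⟶ K =>
        uP adj C ≫ R.rightDerivedFunctorPlus.map g) =
        (fun x => x ≫ R.rightDerivedFunctorPlus.map e.hom) ∘ (fun g => uP adj C ≫ R.rightDerivedFunctorPlus.map g) ∘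
          (fun g => g ≫ e.inv) := by
      funext g
      simp [← Functor.map_comp]
    rw [he]
    exact ((Iso.homToEquiv (R.rightDerivedFunctorPlus.mapIso e)).bijective).comp
      (key.comp (Iso.homToEquiv e.symm).bijective)
  obtain ⟨a, ha⟩ := I.property
  haveI : ∀ n, Injective (((R.mapHomologicalComplex (ComplexShape.up ℤ)).obj I.obj).X n) :=
    fun n => R.injective_obj (I.obj.X n)
  haveI : I.obj.IsKInjective := CochainComplex.isKInjective_of_injective _ a
  haveI : CochainComplex.IsKInjective ((R.mapHomologicalComplex (ComplexShape.up ℤ)).obj I.obj) :=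
    CochainComplex.isKInjective_of_injective _ a
  haveI hu : IsIso (R.rightDerivedFunctorPlusUnit.app J) := isIso_unit_of_injective R I
  have hb1 : Function.Bijective (DerivedCategory.Plus.Qh.map : (L.mapHomotopyCategoryPlus.obj C ⟶ J) → _) :=
    DerivedCategory.Plus.Qh_map_bijective_of_isKInjective _ _ (inferInstanceAs I.obj.IsKInjective)
  have hb2 : Function.Bijective (DerivedCategory.Plus.Qh.map : (C ⟶ R.mapHomotopyCategoryPlus.obj J) → _) :=
    DerivedCategory.Plus.Qh_map_bijective_of_isKInjective _ _
      (inferInstanceAs (CochainComplex.IsKInjective ((R.mapHomologicalComplex (ComplexShape.up ℤ)).obj I.obj)))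
  refine (Function.Bijective.of_comp_iff _ hb1).1 ?_
  have h := ((Iso.homToEquiv (Z := DerivedCategory.Plus.Qh.obj C) (asIso (R.rightDerivedFunctorPlusUnit.app J))).bijective).comp
    (hb2.comp ((S14623.adjPlus adj).homEquiv C J).bijective)
  refine (Function.bijective_iff_has_inverse.mpr ?_)
  obtain ⟨g, h1, h2⟩ := Function.bijective_iff_has_inverse.mp h
  exact ⟨g, fun k => (congrArg g (uP_map adj C k)).trans (h1 k), fun x => (uP_map adj C (g x)).trans (h2 x)⟩

variable (adjD : L.rightDerivedFunctorPlus ⊣ R.rightDerivedFunctorPlus)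

/-- The comparison of a derived adjunction with the functor on complexes. -/
noncomputable def tP (C : HomotopyCategory.Plus A) :
    L.rightDerivedFunctorPlus.obj (DerivedCategory.Plus.Qh.obj C) ⟶
      DerivedCategory.Plus.Qh.obj (L.mapHomotopyCategoryPlus.obj C) :=
  (adjD.homEquiv _ _).symm (uP adj C)

theorem isIso_tP (C : HomotopyCategory.Plus A) : IsIso (tP adj adjD C) := by
  rw [isIso_iff_coyoneda_map_bijective]
  intro K
  convert (adjD.homEquiv _ K).symm.bijective.comp (bijective_uP_comp adj C K) using 1
  funext g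
  exact (Adjunction.homEquiv_naturality_right_symm _ _ _).symm

end Groth.Agent.ModBCPlus6
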